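import Cfsg.Agent.Lib.Helper6.TC11
import Cfsg.Agent.Lib.Helper6.TCD.Fi22b.Par
set_option autoImplicit false
set_option maxRecDepth 1000000
set_option Elab.async false
open Cfsg.Agent.Lib.Helper6.TC
namespace Cfsg.Agent.Lib.Helper6.TCD.Fi22b
theorem chkLab0 : chkLab lab H0 14080 = true := by decide +kernel
theorem chkLab1 : chkLab lab H1 14080 = true := by decide +kernel
theorem chkLab2 : chkLab lab H2 14080 = true := by decide +kernel
theorem chkLab3 : chkLab lab H3 14080 = true := by decide +kernel
theorem chkLab4 : chkLab lab H4 14080 = true := by decide +kernel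
end Cfsg.Agent.Lib.Helper6.TCD.Fi22b
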