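import Cfsg.Agent.Lib.Helper6.TCD.Fi22b.CS0
import Cfsg.Agent.Lib.Helper6.TCD.Fi22b.CS1
import Cfsg.Agent.Lib.Helper6.TCD.Fi22b.CS2
import Cfsg.Agent.Lib.Helper6.TCD.Fi22b.CS3
import Cfsg.Agent.Lib.Helper6.TCD.Fi22b.CS4
import Cfsg.Agent.Lib.Helper6.TCD.Fi22b.CS5
import Cfsg.Agent.Lib.Helper6.TCD.Fi22b.CS6
import Cfsg.Agent.Lib.Helper6.TCD.Fi22b.CS7
import Cfsg.Agent.Lib.Helper6.TCD.Fi22b.CS8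
import Cfsg.Agent.Lib.Helper6.TCD.Fi22b.CS9
import Cfsg.Agent.Lib.Helper6.TCD.Fi22b.CS10
import Cfsg.Agent.Lib.Helper6.TCD.Fi22b.CS11
import Cfsg.Agent.Lib.Helper6.TCD.Fi22b.CS12
import Cfsg.Agent.Lib.Helper6.TCD.Fi22b.CS13
import Cfsg.Agent.Lib.Helper6.TCD.Fi22b.CS14
import Cfsg.Agent.Lib.Helper6.TCD.Fi22b.CS15
import Cfsg.Agent.Lib.Helper6.TCD.Fi22b.CS16
import Cfsg.Agent.Lib.Helper6.TCD.Fi22b.CS17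
import Cfsg.Agent.Lib.Helper6.TCD.Fi22b.CS18
import Cfsg.Agent.Lib.Helper6.TCD.Fi22b.CS19
import Cfsg.Agent.Lib.Helper6.TCD.Fi22b.CS20
import Cfsg.Agent.Lib.Helper6.TCD.Fi22b.CS21
import Cfsg.Agent.Lib.Helper6.TCD.Fi22b.CS22
import Cfsg.Agent.Lib.Helper6.TCD.Fi22b.CN0
import Cfsg.Agent.Lib.Helper6.TCD.Fi22b.CN1
import Cfsg.Agent.Lib.Helper6.TCD.Fi22b.CN2
import Cfsg.Agent.Lib.Helper6.TCD.Fi22b.CN3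
import Cfsg.Agent.Lib.Helper6.TCD.Fi22b.CC
import Cfsg.Agent.Lib.Helper6.TCD.Fi22b.CPa0
import Cfsg.Agent.Lib.Helper6.TCD.Fi22b.CPa1
import Cfsg.Agent.Lib.Helper6.TCD.Fi22b.CPb
import Cfsg.Agent.Lib.Helper6.TCD.Fi22b.CPc0
import Cfsg.Agent.Lib.Helper6.TCD.Fi22b.CPc1
import Cfsg.Agent.Lib.Helper6.TCD.Fi22b.CR0
import Cfsg.Agent.Lib.Helper6.TCD.Fi22b.CR1
import Cfsg.Agent.Lib.Helper6.TCD.Fi22b.CR2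
import Cfsg.Agent.Lib.Helper6.TCD.Fi22b.CR3
import Cfsg.Agent.Lib.Helper6.TCD.Fi22b.CR4
import Cfsg.Agent.Lib.Helper6.TCD.Fi22b.CR5
import Cfsg.Agent.Lib.Helper6.TCD.Fi22b.CR6
import Cfsg.Agent.Lib.Helper6.TCD.Fi22b.CR7
import Cfsg.Agent.Lib.Helper6.TCD.Fi22b.CR8
import Cfsg.Agent.Lib.Helper6.TCD.Fi22b.CR9
import Cfsg.Agent.Lib.Helper6.TCD.Fi22b.CR10
import Cfsg.Agent.Lib.Helper6.TCD.Fi22b.CR11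
import Cfsg.Agent.Lib.Helper6.TCD.Fi22b.CR12
import Cfsg.Agent.Lib.Helper6.TCD.Fi22b.CR13
import Cfsg.Agent.Lib.Helper6.TCD.Fi22b.CR14
import Cfsg.Agent.Lib.Helper6.TCD.Fi22b.CR15
import Cfsg.Agent.Lib.Helper6.TCD.Fi22b.CR16
import Cfsg.Agent.Lib.Helper6.TCD.Fi22b.CR17
import Cfsg.Agent.Lib.Helper6.TCD.Fi22b.CR18
import Cfsg.Agent.Lib.Helper6.TCD.Fi22b.CR19
import Cfsg.Agent.Lib.Helper6.TCD.Fi22b.CR20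
import Cfsg.Agent.Lib.Helper6.TCD.Fi22b.CR21
import Cfsg.Agent.Lib.Helper6.TCD.Fi22b.CR22
import Cfsg.Agent.Lib.Helper6.TCD.Fi22b.CR23
import Cfsg.Agent.Lib.Helper6.TCD.Fi22b.CR24
import Cfsg.Agent.Lib.Helper6.TCD.Fi22b.CR25
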